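import Cfsg.Agent.Lib.Grp.InvNilMax.Criterion
import Cfsg.Agent.Lib.OddUse.InvariantMax
import Cfsg.Agent.S0205

/-!
Coprime action with nilpotent maximal invariant subgroups of order divisible by a given prime: solvability.
-/

set_option autoImplicit false
set_option linter.style.haveILetI false
set_option linter.unusedSectionVars false

namespace Cfsg.Agent.Grp.InvNilMax

open Subgroup

universe u

variable {A : Type*} [Group A] [Finite A]

/-- The quotient by an invariant normal subgroup carries the action; statements transfer along it. -/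
theorem exists_quotient_action {G : Type u} [Group G] [MulDistribMulAction A G] (K : Subgroup G) [K.Normal]
    (hK : ∀ a : A, ∀ x ∈ K, a • x ∈ K) :
    ∃ inst : MulDistribMulAction A (G ⧸ K), ∀ (a : A) (g : G),
      (letI := inst; a • (g : G ⧸ K)) = ((a • g : G) : G ⧸ K) := by
  let ψ : A →* MulAut (G ⧸ K) :=
    { toFun := fun a => QuotientGroup.congr K K (MulDistribMulAction.toMulAut A G a) (OddUse.map_invariant hK a)
      map_one' := by
        ext x
        induction x using QuotientGroup.induction_on with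
        | _ g => exact congrArg (QuotientGroup.mk (s := K)) (one_smul A g)
      map_mul' := fun a b => by
        ext x
        induction x using QuotientGroup.induction_on with
        | _ g => exact congrArg (QuotientGroup.mk (s := K)) (mul_smul a b g) }
  exact ⟨MulDistribMulAction.compHom (G ⧸ K) ψ, fun a g => rfl⟩

/-- The inductive statement with all proper invariant subgroups. -/
theorem isSolvable_aux {p : ℕ} (hp : p.Prime) :
    ∀ (n : ℕ) (G : Type u) [Group G] [Finite G] [MulDistribMulAction A G], Nat.card G = n →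
      (Nat.card A).Coprime (Nat.card G) → p ∣ Nat.card G →
      (∀ H : Subgroup G, H ≠ ⊤ → (∀ a : A, ∀ x ∈ H, a • x ∈ H) → p ∣ Nat.card H → Group.IsNilpotent H) →
      Group.IsSolvable G := by
  intro n
  induction n using Nat.strong_induction_on with
  | _ n IH =>
  intro G _ _ _ hn hcop hpG hnil
  classical
  rcases Nat.even_or_odd (Nat.card G) with heven | hodd
  swap
  · exact S0205.result hodd
  have hA : Odd (Nat.card A) := (Nat.even_or_odd _).resolve_left fun h => by
    have := Nat.eq_one_of_dvd_coprimes hcop h.two_dvd heven.two_dvd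
    omega
  haveI := Fact.mk hp
  -- a normal invariant p-subgroup
  by_cases hK : ∃ K : Subgroup G, K.Normal ∧ K ≠ ⊥ ∧ IsPGroup p K ∧ ∀ a : A, ∀ x ∈ K, a • x ∈ K
  · obtain ⟨K, hKn, hK0, hKp, hKA⟩ := hK
    haveI := hKn
    obtain ⟨inst, hsm⟩ := exists_quotient_action K hKA
    letI := inst
    haveI : Group.IsSolvable (G ⧸ K) := by
      refine OddUse.isSolvable_of_proper_nilpotent (fun H _ _ h => S0205.result h) (fun h => S0205.result h) _
        (G ⧸ K) rfl (hcop.coprime_dvd_right (card_quotient_dvd_card K)) fun H hH hHA => ?_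
      have hKle : K ≤ H.comap (QuotientGroup.mk' K) := fun k hk => by
        rw [mem_comap, QuotientGroup.mk'_apply, (QuotientGroup.eq_one_iff k).mpr hk]
        exact one_mem H
      haveI := hnil (H.comap (QuotientGroup.mk' K))
        (fun h => hH (by rw [← map_comap_eq_self_of_surjective (QuotientGroup.mk'_surjective K) H, h,
          map_top_of_surjective _ (QuotientGroup.mk'_surjective K)]))
        (fun a x hx => by
          rw [mem_comap, QuotientGroup.mk'_apply] at hx ⊢
          rw [← hsm]
          exact hHA a _ hx)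
        (by
          obtain ⟨k, hk⟩ := IsPGroup.iff_card.mp hKp
          have hk0 : k ≠ 0 := fun e => hK0 (card_eq_one.mp (by rw [hk, e, pow_zero]))
          exact ((dvd_pow_self p hk0).trans (dvd_of_eq hk.symm)).trans (card_dvd_of_le hKle))
      exact Group.nilpotent_of_surjective ((QuotientGroup.mk' K).subgroupComap H)
        (MonoidHom.subgroupComap_surjective_of_surjective _ H (QuotientGroup.mk'_surjective K))
    haveI := hKp.isNilpotent
    haveI : Group.IsSolvable K := inferInstance
    exact solvable_of_ker_le_range K.subtype (QuotientGroup.mk' K)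
      (by rw [QuotientGroup.ker_mk', range_subtype])
  push Not at hK
  haveI hAs : Group.IsSolvable A := S0205.result hA
  obtain ⟨R, hRA, ⟨i, hi⟩, hRi⟩ := S4381.exists_invariant_sylow' hcop (Or.inl hAs) p
  have hRp : IsPGroup p R := IsPGroup.of_card hi
  let P : Sylow p G := hRp.toSylow hRi
  have hPR : (P : Subgroup G) = R := rfl
  have hR0 : R ≠ ⊥ := fun h => by
    rw [h, index_bot] at hRi
    exact hRi hpG
  have hRn : ¬ R.Normal := fun h => by
    obtain ⟨a, x, hx, hax⟩ := hK R h hR0 hRp
    exact hax (hRA a x hx)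
  -- a normaliser of an invariant p-subgroup is nilpotent
  have hlocal : ∀ W : Subgroup G, W ≠ ⊥ → IsPGroup p W → (∀ a : A, ∀ x ∈ W, a • x ∈ W) →
      Cfsg.HasNormalPComplement p (normalizer (W : Set G)) := by
    intro W hW0 hWp hWA
    refine Grp.hasNormalPComplement_of_nilpotent (hnil _ (fun h => ?_) (OddUse.normalizer_invariant hWA) ?_)
    · obtain ⟨a, x, hx, hax⟩ := hK W (normalizer_eq_top_iff.mp h) hW0 hWp
      exact hax (hWA a x hx)
    · obtain ⟨k, hk⟩ := IsPGroup.iff_card.mp hWp
      have hk0 : k ≠ 0 := fun e => hW0 (card_eq_one.mp (by rw [hk, e, pow_zero]))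
      exact ((dvd_pow_self p hk0).trans (dvd_of_eq hk.symm)).trans (card_dvd_of_le le_normalizer)
  have hcompl : Cfsg.HasNormalPComplement p G := by
    rcases eq_or_ne p 2 with hp2 | hp2
    · subst hp2
      exact hasNormalPComplement_two_of_invariant hA P hRA fun W hW hW0 hWA =>
        hlocal W hW0 (hRp.to_le hW) hWA
    · refine (S0117.result hp2 P).mpr ?_
      rw [hPR]
      have hZA : ∀ a : A, ∀ x ∈ Cfsg.centerThompsonOf p R, a • x ∈ Cfsg.centerThompsonOf p R := by
        intro a x hx
        have h := Invol.centerEl_map (p := p) (MulDistribMulAction.toMulAut A G a).toMonoidHom R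
          (fun y _ hy => (MulDistribMulAction.toMulAut A G a).injective (by
            rw [map_one]; exact hy))
        rw [OddUse.map_invariant hRA a] at h
        rw [← h]
        exact ⟨x, hx, rfl⟩
      exact hlocal _ (Invol.isZJFunctor_centerEl.ne_bot hRp hR0) (hRp.to_le (Invol.centerEl_le R)) hZA
  obtain ⟨T, N, hNn, hNT⟩ := hcompl
  haveI := hNn
  obtain ⟨j, hj⟩ := IsPGroup.iff_card.mp T.isPGroup'
  have hidx : N.index = p ^ j := hNT.symm.index_eq_card.trans hj
  have hpN : ¬ p ∣ Nat.card N := by
    intro hd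
    have h1 : N.index * Nat.card N = Nat.card G := by rw [mul_comm, card_mul_index]
    have h2 : Nat.card (T : Subgroup G) * (T : Subgroup G).index = Nat.card G := card_mul_index _
    rw [hidx, ← h2, hj] at h1
    exact T.not_dvd_index (Nat.eq_of_mul_eq_mul_left (pow_pos hp.pos j) h1 ▸ hd)
  have hidxR : N.index = Nat.card R := by
    rw [hidx, ← hj, ← hPR, Sylow.card_eq_multiplicity, Sylow.card_eq_multiplicity]
  have hNA : ∀ a : A, ∀ x ∈ N, a • x ∈ N := by
    intro a x hx
    have ho : orderOf (a • x) ∣ Nat.card N := by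
      rw [show a • x = MulDistribMulAction.toMulAut A G a x from rfl, MulEquiv.orderOf_eq]
      exact orderOf_dvd_natCard _ hx
    have h1 : orderOf ((a • x : G) : G ⧸ N) ∣ Nat.gcd (Nat.card N) N.index :=
      Nat.dvd_gcd ((orderOf_map_dvd (QuotientGroup.mk' N) _).trans ho)
        (by rw [index_eq_card]; exact orderOf_dvd_natCard _)
    have hcp : (Nat.card N).Coprime N.index := by
      rw [hidx]
      exact Nat.Coprime.pow_right _ ((hp.coprime_iff_not_dvd).mpr hpN).symm
    rw [hcp, Nat.dvd_one, orderOf_eq_one_iff, QuotientGroup.eq_one_iff] at h1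
    exact h1
  -- either a normal invariant Sylow subgroup of `N`, or `N` centralises `R`
  by_cases hQ : ∃ Q : Subgroup G, Q.Normal ∧ Q ≠ ⊥ ∧ Q ≤ N ∧ Group.IsNilpotent Q ∧ ∀ a : A, ∀ x ∈ Q, a • x ∈ Q
  · obtain ⟨Q, hQn, hQ0, hQN, hQnil, hQA⟩ := hQ
    haveI := hQn
    obtain ⟨inst, hsm⟩ := exists_quotient_action Q hQA
    letI := inst
    have hlt : Nat.card (G ⧸ Q) < Nat.card G := by
      rw [card_eq_card_quotient_mul_card_subgroup Q]
      exact lt_mul_of_one_lt_right Nat.card_pos ((one_lt_card_iff_ne_bot Q).mpr hQ0)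
    have hpQ : ¬ p ∣ Nat.card Q := fun h => hpN (h.trans (card_dvd_of_le hQN))
    have hpq : p ∣ Nat.card (G ⧸ Q) := by
      rw [card_eq_card_quotient_mul_card_subgroup Q] at hpG
      exact (hp.dvd_mul.mp hpG).resolve_right hpQ
    haveI : Group.IsSolvable (G ⧸ Q) := by
      refine IH _ (hn ▸ hlt) (G ⧸ Q) rfl (hcop.coprime_dvd_right (card_quotient_dvd_card Q)) hpq
        fun H hH hHA hpH => ?_
      haveI := hnil (H.comap (QuotientGroup.mk' Q))
        (fun h => hH (by rw [← map_comap_eq_self_of_surjective (QuotientGroup.mk'_surjective Q) H, h,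
          map_top_of_surjective _ (QuotientGroup.mk'_surjective Q)]))
        (fun a x hx => by
          rw [mem_comap, QuotientGroup.mk'_apply] at hx ⊢
          rw [← hsm]
          exact hHA a _ hx)
        (hpH.trans (card_dvd_of_surjective ((QuotientGroup.mk' Q).subgroupComap H)
          (MonoidHom.subgroupComap_surjective_of_surjective _ H (QuotientGroup.mk'_surjective Q))))
      exact Group.nilpotent_of_surjective ((QuotientGroup.mk' Q).subgroupComap H)
        (MonoidHom.subgroupComap_surjective_of_surjective _ H (QuotientGroup.mk'_surjective Q))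
    haveI := hQnil
    haveI : Group.IsSolvable Q := inferInstance
    exact solvable_of_ker_le_range Q.subtype (QuotientGroup.mk' Q)
      (by rw [QuotientGroup.ker_mk', range_subtype])
  push Not at hQ
  exfalso
  refine hRn ?_
  obtain ⟨C, hC⟩ : ∃ C, C = N ⊓ centralizer (R : Set G) := ⟨_, rfl⟩
  have hCN : C = N := by
    refine eq_of_le_of_card_ge (hC ▸ inf_le_left) (Nat.le_of_dvd Nat.card_pos ?_)
    rw [Nat.dvd_iff_prime_pow_dvd_dvd]
    intro q k hq hqk
    rcases Nat.eq_zero_or_pos k with rfl | hk0
    · simp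
    haveI := Fact.mk hq
    have hqp : q ≠ p := fun e => hpN (e ▸ (dvd_pow_self q hk0.ne').trans hqk)
    obtain ⟨Q, hQA, ⟨m, hm⟩, hQi⟩ := S4381.exists_invariant_sylow' hcop (Or.inl hAs) q
    have hQp : IsPGroup q Q := IsPGroup.of_card hm
    have hQN : Q ≤ N := by
      intro x hx
      have hcp : (Nat.card Q).Coprime N.index := by
        rw [hm, hidx]
        exact Nat.Coprime.pow _ _ ((Nat.coprime_primes hq hp).mpr hqp)
      have h1 : orderOf ((x : G) : G ⧸ N) ∣ Nat.gcd (Nat.card Q) N.index :=
        Nat.dvd_gcd ((orderOf_map_dvd (QuotientGroup.mk' N) _).trans (orderOf_dvd_natCard _ hx))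
          (by rw [index_eq_card]; exact orderOf_dvd_natCard _)
      rw [hcp, Nat.dvd_one, orderOf_eq_one_iff, QuotientGroup.eq_one_iff] at h1
      exact h1
    have hqm : q ^ k ∣ q ^ m := by
      have h1 : q ^ k ∣ Nat.card Q * Q.index := by rw [card_mul_index]; exact hqk.trans (card_subgroup_dvd_card N)
      rw [hm] at h1
      exact (Nat.Coprime.pow_left k ((hq.coprime_iff_not_dvd).mpr hQi)).dvd_of_dvd_mul_right h1
    have hQ0 : Q ≠ ⊥ := fun e => by
      rw [e, card_bot] at hm
      rw [← hm, Nat.dvd_one] at hqm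
      exact absurd hqm (Nat.one_lt_pow hk0.ne' hq.one_lt).ne'
    have hNQne : normalizer (Q : Set G) ≠ ⊤ := fun h => by
      haveI := hQp.isNilpotent
      obtain ⟨a, x, hx, hax⟩ := hQ Q (normalizer_eq_top_iff.mp h) hQ0 hQN inferInstance
      exact hax (hQA a x hx)
    -- Frattini
    have hQi' : ¬ q ∣ (Q.subgroupOf N).index := fun h => hQi (h.trans (by
      rw [← relIndex, ← relIndex_mul_index hQN]
      exact dvd_mul_right _ _))
    let QS : Sylow q N := ((hQp.of_equiv (subgroupOfEquivOfLe hQN).symm).toSylow hQi')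
    have hfr := Sylow.normalizer_sup_eq_top QS
    have hQmap : (QS : Subgroup N).map N.subtype = Q := map_subgroupOf_eq_of_le hQN
    rw [hQmap] at hfr
    have hRdvd : Nat.card R ∣ Nat.card (normalizer (Q : Set G)) := by
      rw [← hidxR, ← relIndex_top_right, ← hfr, relIndex_sup_right]
      exact relIndex_dvd_card N _
    have hpNQ : p ∣ Nat.card (normalizer (Q : Set G)) := by
      have hi0 : i ≠ 0 := fun e => hR0 (card_eq_one.mp (by rw [hi, e, pow_zero]))
      exact (dvd_pow_self p hi0).trans (hi ▸ hRdvd)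
    have hnilQ := hnil _ hNQne (OddUse.normalizer_invariant hQA) hpNQ
    rw [hi] at hRdvd
    obtain ⟨K, hK'⟩ := Sylow.exists_subgroup_card_pow_prime p hRdvd
    obtain ⟨K', hK'd⟩ : ∃ K' : Subgroup G, K' = K.map (normalizer (Q : Set G)).subtype := ⟨_, rfl⟩
    have hcardK : Nat.card K' = p ^ i := by rw [hK'd, card_map_of_injective (subtype_injective _), hK']
    have hcomm : ∀ x ∈ K', ∀ y ∈ Q, Commute x y := by
      rw [hK'd]
      rintro _ ⟨x, hx, rfl⟩ y hy
      have hox : orderOf x ∣ p ^ i := hK' ▸ orderOf_dvd_natCard _ hx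
      have hoy : orderOf (⟨y, le_normalizer hy⟩ : normalizer (Q : Set G)) ∣ q ^ m := by
        rw [orderOf_mk, ← hm]
        exact orderOf_dvd_natCard _ hy
      exact congrArg Subtype.val (Char.Star.commute_of_coprime_order hnilQ
        (((Nat.Coprime.pow i m ((Nat.coprime_primes hp hq).mpr hqp.symm)).coprime_dvd_left hox).coprime_dvd_right hoy))
    -- conjugate `K'` onto `R`
    obtain ⟨PK, hPK⟩ := (IsPGroup.of_card hcardK).exists_le_sylow
    have hPKeq : K' = (PK : Subgroup G) := eq_of_le_of_card_ge hPK (by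
      rw [hcardK, ← hi, ← hPR, Sylow.card_eq_multiplicity, Sylow.card_eq_multiplicity])
    obtain ⟨g, hg⟩ := MulAction.exists_smul_eq G PK P
    have hsub : Q.map (MulAut.conj g).toMonoidHom ≤ C := by
      rw [hC]
      rintro _ ⟨y, hy, rfl⟩
      refine mem_inf.mpr ⟨hNn.conj_mem y (hQN hy) g, mem_centralizer_iff.mpr fun r hr => ?_⟩
      have hr' : r ∈ ((g • PK : Sylow p G) : Subgroup G) := by rw [hg, hPR]; exact hr
      rw [Sylow.coe_subgroup_smul] at hr'
      obtain ⟨x, hx, rfl⟩ := hr'
      exact ((hcomm x (hPKeq ▸ hx) y hy).map (MulAut.conj g)).eq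
    refine hqm.trans ?_
    rw [← hm, ← card_map_of_injective (K := Q) (f := (MulAut.conj g).toMonoidHom) (MulAut.conj g).injective]
    exact card_dvd_of_le hsub
  -- `R` is normal
  have hRN : R ≤ normalizer (R : Set G) := le_normalizer
  have htop : normalizer (R : Set G) = ⊤ := by
    have h1 : N ⊔ R ≤ normalizer (R : Set G) := sup_le (fun x hx => centralizer_le_normalizer _
      (((hC ▸ hCN.ge hx) : x ∈ N ⊓ centralizer (R : Set G)).2)) hRN
    refine top_le_iff.mp (le_trans ?_ h1)
    have h2 : N.relIndex (N ⊔ R) = N.index := by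
      rw [relIndex_sup_left, ← inf_relIndex_right]
      have hbot : N ⊓ R = ⊥ := by
        refine eq_bot_iff.mpr fun x hx => ?_
        have h1 := Nat.dvd_gcd (orderOf_dvd_natCard _ (mem_inf.mp hx).1) (orderOf_dvd_natCard _ (mem_inf.mp hx).2)
        rw [hi, Nat.Coprime.pow_right i ((hp.coprime_iff_not_dvd).mpr hpN).symm, Nat.dvd_one, orderOf_eq_one_iff] at h1
        exact mem_bot.mpr h1
      rw [hbot, relIndex_bot_left, hidxR]
    have h3 : (N ⊔ R).index = 1 := by
      have := relIndex_mul_index (le_sup_left : N ≤ N ⊔ R)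
      rw [h2] at this
      exact Nat.eq_of_mul_eq_mul_left (Nat.pos_of_ne_zero index_ne_zero_of_finite) (this.trans (mul_one _).symm)
    exact (index_eq_one.mp h3).ge
  exact normalizer_eq_top_iff.mp htop

/-- A coprime action all whose maximal invariant subgroups of order divisible by `p` are nilpotent. -/
theorem isSolvable_of_invariant_max_nilpotent {G : Type u} [Group G] [Finite G] [MulDistribMulAction A G]
    (hcop : (Nat.card A).Coprime (Nat.card G)) (p : ℕ) (hp : p.Prime) (hpG : p ∣ Nat.card G)
    (hmax : ∀ H : Subgroup G, H ≠ ⊤ → (∀ a : A, ∀ x ∈ H, a • x ∈ H) →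
      (∀ K : Subgroup G, H < K → (∀ a : A, ∀ x ∈ K, a • x ∈ K) → K = ⊤) → p ∣ Nat.card H → Group.IsNilpotent H) :
    Group.IsSolvable G := by
  refine isSolvable_aux hp _ G rfl hcop hpG fun L hL hLA hpL => ?_
  obtain ⟨M, hLM, hM⟩ := (Set.toFinite {M : Subgroup G | M ≠ ⊤ ∧ ∀ a : A, ∀ x ∈ M, a • x ∈ M}).exists_le_maximal
    (a := L) ⟨hL, hLA⟩
  haveI := hmax M hM.1.1 hM.1.2 (fun K hK hKA => by_contra fun hne => hK.not_ge (hM.2 ⟨hne, hKA⟩ hK.le))
    (hpL.trans (card_dvd_of_le hLM))
  exact Group.nilpotent_of_mulEquiv (subgroupOfEquivOfLe hLM)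

end Cfsg.Agent.Grp.InvNilMax
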